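import Groth.Agent.PicLoc.K589.NilBound
import Groth.Agent.PicLoc.K728.KeyLift

/-!
# Lifting generators of an invertible module from `V(x ^ M)`

`nonempty_iso_of_bound`: `X` proper over `Spec B`, `x` in the Jacobson radical, `L` invertible, `K` the image of
`x ^ a` on `L`, `x` injective on `K`, the `x`-power torsion of `H^1(X, K)` killed by `x ^ C`: if `L` is trivial over
`B / x ^ (a + 1 + C)` then `L` is trivial.
-/

set_option autoImplicit false
universe u

open CategoryTheory CategoryTheory.Limits AlgebraicGeometry Opposite TopologicalSpace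

namespace K589.NilLift

open Groth.Agent Groth.Agent.Fdesc.LocGen Groth.Agent.FormalB Groth.Agent.FormalB.ModPow
  Groth.Agent.FormalB.ModPowAff Groth.Agent.Pic13.H126 Groth.Agent.Pic13.H126.D2Gen
  Groth.Agent.Pic13.H126.D2FF K728.KeyLift K589.NilFac
open Groth.Agent.FormalA.HHLin (HHmap HHmap_comp_apply)

variable {A : Type u} [CommRing A] {X : Scheme.{u}} [X.Over (Spec (CommRingCat.of A))]

/-- The body of `K728.KeyLift.exists_lift`. -/
theorem not_genAt_sub (I : Ideal A) {L : X.Modules} (hL : PicF.IsInvertible L) {n : ℕ} (hn : 1 ≤ n) {Y : Scheme.{u}} (j : Y ⟶ X)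
    (q : Y ⟶ Spec (CommRingCat.of (A ⧸ I ^ n)))
    (hj : IsPullback j q (X ↘ Spec (CommRingCat.of A)) (Spec.map (CommRingCat.ofHom (Ideal.Quotient.mk (I ^ n)))))
    (t : Γ((Scheme.Modules.pullback j).obj L, j ⁻¹ᵁ ⊤))
    (e : Formal.modPow I n L ≅ (Scheme.Modules.pushforward j).obj ((Scheme.Modules.pullback j).obj L))
    (he : Formal.modPowπ I n L ≫ e.hom = (Scheme.Modules.pullbackPushforwardAdjunction j).unit.app L)
    (σ : Γ(L, ⊤)) (hσ : (Formal2.modPowLE I hn L).app ⊤ (e.inv.app ⊤ t) =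
        (Formal.modPowπ I 1 L).app ⊤ σ) (z : Y) : ¬ GenAt (t - pullSec j σ) z := by
  have hcoh : Coh.IsQCoh L := Ega2.QCohLocal.isQCoh_of_isInvertible hL
  have : IsClosedImmersion (Spec.map (CommRingCat.ofHom (Ideal.Quotient.mk (I ^ n)))) :=
    IsClosedImmersion.spec_of_surjective _ Ideal.Quotient.mk_surjective
  have : IsClosedImmersion j := MorphismProperty.of_isPullback hj.flip this
  obtain ⟨V, e₀, hxV, he₀⟩ := (isInvertible_iff L).1 hL (j z)
  obtain ⟨_, ⟨U, hU, rfl⟩, hxU, hUV⟩ :=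
    X.isBasis_affineOpens.exists_subset_of_mem_open hxV V.isOpen
  have hg : IsGen (res L hUV e₀) := he₀.res _
  obtain ⟨b, hb⟩ := modPowπ_app_surjective I n L hcoh hU (res _ le_top (e.inv.app ⊤ t))
  obtain ⟨β, hβ⟩ := hg.exists_eq b
  obtain ⟨α, hα⟩ := hg.exists_eq (res L le_top σ)
  -- `t = b` on `U`
  have h1 : pullSec j b = res _ (j.preimage_mono (le_top : U ≤ ⊤)) t := by
    have h2 := congrArg (fun z => e.hom.app U z) hb
    have h3 : ∀ z : Γ(L, U), e.hom.app U ((Formal.modPowπ I n L).app U z) = pullSec j z := by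
      intro z
      change _ = ((Scheme.Modules.pullbackPushforwardAdjunction j).unit.app L).app U z
      rw [← he]; rfl
    have h4 : e.hom.app U (res _ le_top (e.inv.app ⊤ t)) =
        res ((Scheme.Modules.pushforward j).obj ((Scheme.Modules.pullback j).obj L)) (le_top : U ≤ ⊤) t := by
      rw [app_res]
      congr 1
      have h5 : e.inv ≫ e.hom = 𝟙 _ := e.inv_hom_id
      exact congr(($(h5).app ⊤) t)
    exact ((h3 b).symm.trans h2).trans h4
  have h3 : (Formal.modPowπ I 1 L).app U b =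
      (Formal.modPowπ I 1 L).app U (res L le_top σ) := by
    have h4 : (Formal2.modPowLE I hn L).app U
        (res (Formal.modPow I n L) (le_top : U ≤ ⊤) (e.inv.app ⊤ t)) =
          (Formal.modPowπ I 1 L).app U (res L le_top σ) := by
      refine (app_res (Formal2.modPowLE I hn L) le_top _).trans ?_
      refine Eq.trans ?_ (app_res (Formal.modPowπ I 1 L) le_top σ).symm
      exact congrArg (res (Formal.modPow I 1 L) (le_top : U ≤ ⊤)) hσ
    have h5 := Formal2.modPowπ_modPowLE I hn L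
    have h6 : (Formal2.modPowLE I hn L).app U
        ((Formal.modPowπ I n L).app U b) = (Formal.modPowπ I 1 L).app U b :=
      congr(($(h5).app U) b)
    refine h6.symm.trans (Eq.trans ?_ h4)
    exact congrArg (fun z => (Formal2.modPowLE I hn L).app U z) hb
  have h4 : β - α ∈ I.map (toΓ A X U) := by
    have h5 : (Formal.modPowπ I 1 L).app U ((β - α) • res L hUV e₀) = 0 := by
      rw [sub_smul, ← hβ, ← hα]
      refine (map_sub ((Formal.modPowπ I 1 L).app U).hom _ _).trans ?_
      exact sub_eq_zero.mpr h3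
    rw [modPowπ_app_eq_zero_iff I 1 L hcoh hU, pow_one] at h5
    exact mem_of_smul_gen hg _ _ h5
  have hzU : z ∈ j ⁻¹ᵁ U := hxU
  rw [← genAt_res_iff (j.preimage_mono (le_top : U ≤ ⊤)) _ hzU]
  have h6 : res _ (j.preimage_mono (le_top : U ≤ ⊤)) (t - pullSec j σ) =
      (j.app U (β - α) : Γ(Y, j ⁻¹ᵁ U)) • pullSec j (res L hUV e₀) := by
    rw [map_sub, ← h1, res_pullSec j (le_top : U ≤ ⊤) σ, hα, hβ, pullSec_smul, pullSec_smul, map_sub, sub_smul]
  rw [h6, genAt_smul_gen_iff (hg.pullSec j)]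
  have h7 : (j.app U (β - α) : Γ(Y, j ⁻¹ᵁ U)) ^ n = 0 := by
    rw [← map_pow]
    have h8 : (β - α) ^ n ∈ (I ^ n).map (toΓ A X U) := by
      rw [Ideal.map_pow]
      exact Ideal.pow_mem_pow h4 _
    rw [← D2Unit.ker_app hj hU] at h8
    exact h8
  rw [basicOpen_eq_bot_of_pow _ h7]
  exact fun h => h

theorem modPowLE_comp (I : Ideal A) {l m n : ℕ} (h : l ≤ m) (h' : m ≤ n) (M : X.Modules) :
    Formal2.modPowLE I h' M ≫ Formal2.modPowLE I h M = Formal2.modPowLE I (h.trans h') M := by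
  have := (isModPow_modPowπ I n M).epi
  rw [← cancel_epi (Formal.modPowπ I n M), ← Category.assoc, Formal2.modPowπ_modPowLE, Formal2.modPowπ_modPowLE,
    Formal2.modPowπ_modPowLE]

theorem nonempty_iso_of_bound [IsProper (X ↘ Spec (CommRingCat.of A))] (x : A) (hx : x ∈ (⊥ : Ideal A).jacobson)
    {L : X.Modules} (hL : PicF.IsInvertible L) {a C : ℕ} (hT : TF x a L) (F : Fac x a L)
    (hC : ∀ (n : ℕ) (w : Coh.HH X F.K 1), x ^ n • w = 0 → x ^ C • w = 0) {Y : Scheme.{u}} (j : Y ⟶ X)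
    (q : Y ⟶ Spec (CommRingCat.of (A ⧸ Ideal.span {x} ^ (a + (1 + C)))))
    (hj : IsPullback j q (X ↘ Spec (CommRingCat.of A))
      (Spec.map (CommRingCat.ofHom (Ideal.Quotient.mk (Ideal.span {x} ^ (a + (1 + C)))))))
    (ht : Nonempty ((Scheme.Modules.pullback j).obj L ≅ Coh.structureModule Y)) :
    Nonempty (L ≅ Coh.structureModule X) := by
  obtain ⟨t, ht⟩ := exists_isGen_of_iso ht
  have hmod := D2Unit.isModPow_unit hj hL
  obtain ⟨e, he, -⟩ := (isModPow_modPowπ (Ideal.span {x}) (a + (1 + C)) L).exists_iso hmod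
  obtain ⟨y, hy⟩ := (CurvesB.HZero.equivAdd (Formal.modPow (Ideal.span {x}) (a + (1 + C)) L)).surjective
    (e.inv.app ⊤ t)
  obtain ⟨z, hz⟩ := F.lift hT 0 C hC 1 y
  have h1 : HHmap A (π x 1 L) 0 z = HHmap A (tr x (show 1 ≤ a + (1 + C) by omega) L) 0 y := by
    have h2 := congrArg (HHmap A (tr x (show 1 ≤ a + 1 by omega) L) 0) hz
    rwa [HHmap_comp_apply, HHmap_comp_apply, π_tr, modPowLE_comp] at h2
  have hL' := isInvertible_pullback j hL
  refine nonempty_iso_of_isGen (isGen_of_jacobson (X ↘ Spec (CommRingCat.of A)) (K := Ideal.span {x} ^ (a + (1 + C))) ?_ hj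
    (CurvesB.HZero.equivAdd L z) fun w => ?_)
  · refine (Ideal.pow_le_self (by omega)).trans ?_
    rwa [Ideal.span_singleton_le_iff_mem]
  · have h2 := not_genAt_sub (Ideal.span {x}) hL (show 1 ≤ a + (1 + C) by omega) j q hj t e he
      (CurvesB.HZero.equivAdd L z) (by
        have h3 := CurvesB.HZero.equivAdd_map (tr x (show 1 ≤ a + (1 + C) by omega) L) y
        have h4 := CurvesB.HZero.equivAdd_map (π x 1 L) z
        refine Eq.trans ?_ h4
        rw [← hy]
        refine h3.symm.trans ?_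
        exact congrArg (CurvesB.HZero.equivAdd _) h1.symm) w
    have h3 : GenAt t w := genAt_of_isGen ht trivial
    let t' : Γ((Scheme.Modules.pullback j).obj L, j ⁻¹ᵁ ⊤) := t
    have h4 : ¬ GenAt (-(t' - pullSec j (CurvesB.HZero.equivAdd L z))) w := by
      intro h5
      apply h2
      have h6 := (genAt_smul_iff hL' (-1 : Γ(Y, j ⁻¹ᵁ ⊤)) _ (show w ∈ j ⁻¹ᵁ (⊤ : X.Opens) from trivial)).2
        ⟨(isUnit_iff_le_basicOpen _).1 (isUnit_one.neg) trivial, h5⟩
      rwa [neg_smul, one_smul, neg_neg] at h6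
    have h5 := GenAt.add (show GenAt t' w from h3) h4
    have h6 : t' + -(t' - pullSec j (CurvesB.HZero.equivAdd L z)) = pullSec j (CurvesB.HZero.equivAdd L z) := by
      abel
    rw [h6] at h5
    have h7 : j w ∈ (⊤ : X.Opens) := trivial
    exact (genAt_pullSec_iff j hL _ h7).1 h5

end K589.NilLift
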