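import Groth.Agent.CycA.Herbrand
import Mathlib.RingTheory.HopkinsLevitzki

/-!
# Lengths and powers of an element over a one-dimensional Noetherian ring

`R` a commutative ring, `x : R`.
* `length_ne_top`: a finite module killed by a power of `x` has finite length if the `R / x ^ n` are Artinian;
* `exists_bound`: the lengths of the `x ^ n`-torsion of a finite module are bounded;
* `herbrand_eq`: `len H[y] - len H / y` does not change under maps with kernel and cokernel of finite length;
* `torsion_le`: the bound for `x`-power torsion.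
-/

set_option autoImplicit false
set_option linter.style.haveILetI false
universe u v

namespace K589.NilAlg

open LinearMap CycAlg Groth.Agent.CycA.LengthCalc

variable {R : Type u} [CommRing R] (x : R)

/-- multiplication by `y` -/
abbrev mul (H : Type v) [AddCommGroup H] [Module R H] (y : R) : H →ₗ[R] H := LinearMap.lsmul R H y

section

variable (H : Type v) [AddCommGroup H] [Module R H]

theorem length_ne_top [Module.Finite R H] (n : ℕ) [IsArtinianRing (R ⧸ Ideal.span {x ^ n})]
    (h : ∀ w : H, x ^ n • w = 0) : Module.length R H ≠ ⊤ := by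
  have hI : Module.IsTorsionBySet R H (Ideal.span {x ^ n} : Ideal R) := by
    rintro w ⟨a, ha⟩
    obtain ⟨b, rfl⟩ := Ideal.mem_span_singleton'.1 ha
    change (b * x ^ n) • w = 0
    rw [mul_smul, h, smul_zero]
  letI := hI.module
  haveI : IsScalarTower R (R ⧸ Ideal.span {x ^ n}) H := hI.isScalarTower
  haveI : Module.Finite (R ⧸ Ideal.span {x ^ n}) H := Module.Finite.of_restrictScalars_finite R _ H
  rw [Module.length_eq_of_surjective (R := R ⧸ Ideal.span {x ^ n}) (S := R) Ideal.Quotient.mk_surjective]
  exact Module.length_ne_top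

theorem perH_zero (y : R) : Module.length R (perH (mul H y) (0 : H →ₗ[R] H)) = Module.length R (ker (mul H y)) := by
  refine (Submodule.quotEquivOfEqBot _ ?_).length_eq
  rw [LinearMap.range_zero]
  ext w
  rw [mem_submoduleOf, Submodule.mem_bot, Submodule.mem_bot]
  exact Submodule.coe_eq_zero

theorem perH_zero' (y : R) : Module.length R (perH (0 : H →ₗ[R] H) (mul H y)) = Module.length R (H ⧸ range (mul H y)) := by
  refine length_quot_eq_of_surjective ((range (mul H y)).mkQ ∘ₗ (ker (0 : H →ₗ[R] H)).subtype) ?_ _ ?_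
  · intro w
    obtain ⟨w, rfl⟩ := Submodule.mkQ_surjective _ w
    exact ⟨⟨w, rfl⟩, rfl⟩
  · ext w
    rw [LinearMap.mem_ker, mem_submoduleOf, LinearMap.comp_apply, Submodule.mkQ_apply, Submodule.Quotient.mk_eq_zero]
    rfl

end

section

variable (hart : ∀ n : ℕ, IsArtinianRing (R ⧸ Ideal.span {x ^ n})) [IsNoetherianRing R]

include hart in
theorem length_ker_ne_top (H : Type v) [AddCommGroup H] [Module R H] [Module.Finite R H] (n : ℕ) :
    Module.length R (ker (mul H (x ^ n))) ≠ ⊤ := by
  have := hart n
  exact length_ne_top x _ n fun w => Subtype.ext w.2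

include hart in
theorem length_coker_ne_top (H : Type v) [AddCommGroup H] [Module R H] [Module.Finite R H] (n : ℕ) :
    Module.length R (H ⧸ range (mul H (x ^ n))) ≠ ⊤ := by
  have := hart n
  refine length_ne_top x _ n fun w => ?_
  obtain ⟨w, rfl⟩ := Submodule.mkQ_surjective _ w
  rw [← map_smul, Submodule.mkQ_apply, Submodule.Quotient.mk_eq_zero]
  exact ⟨w, rfl⟩

theorem ker_mono (H : Type v) [AddCommGroup H] [Module R H] {m n : ℕ} (h : m ≤ n) :
    ker (mul H (x ^ m)) ≤ ker (mul H (x ^ n)) := by
  intro w hw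
  rw [LinearMap.mem_ker, LinearMap.lsmul_apply] at hw ⊢
  rw [← Nat.sub_add_cancel h, pow_add, mul_smul, hw, smul_zero]

include hart in
/-- The lengths of the `x ^ n`-torsion of a finite module are bounded. -/
theorem exists_bound (H : Type v) [AddCommGroup H] [Module R H] [Module.Finite R H] :
    ∃ C : ℕ, ∀ n, Module.length R (ker (mul H (x ^ n))) ≤ C := by
  obtain ⟨a, ha⟩ := monotone_stabilizes_iff_noetherian.2 (inferInstance : IsNoetherian R H)
    ⟨fun n => ker (mul H (x ^ n)), fun m n h => ker_mono x H h⟩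
  obtain ⟨C, hC⟩ := ENat.ne_top_iff_exists.1 (length_ker_ne_top x hart H a)
  refine ⟨C, fun n => ?_⟩
  rw [hC]
  rcases le_total n a with h | h
  · exact Module.length_le_of_injective (Submodule.inclusion (ker_mono x H h)) (Submodule.inclusion_injective _)
  · have h1 : ker (mul H (x ^ a)) = ker (mul H (x ^ n)) := ha n h
    rw [h1]

include hart in
/-- The Herbrand quotient of multiplication by `x ^ n` does not change under maps with kernel and cokernel killed by a
power of `x`. -/
theorem herbrand_eq {H₀ H : Type v} [AddCommGroup H₀] [Module R H₀] [Module.Finite R H₀]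
    [AddCommGroup H] [Module R H] [Module.Finite R H] (f : H₀ →ₗ[R] H) (E : ℕ)
    (hker : ∀ w, f w = 0 → x ^ E • w = 0) (hcok : ∀ v : H, ∃ w, f w = x ^ E • v) (n : ℕ) :
    ((Module.length R (ker (mul H₀ (x ^ n)))).toNat : ℤ) - ((Module.length R (H₀ ⧸ range (mul H₀ (x ^ n)))).toNat : ℤ) =
    ((Module.length R (ker (mul H (x ^ n)))).toNat : ℤ) - ((Module.length R (H ⧸ range (mul H (x ^ n)))).toNat : ℤ) := by
  have key : ∀ (G : Type v) [AddCommGroup G] [Module R G] [Module.Finite R G],
      FinCoh R (mul G (x ^ n)) (0 : G →ₗ[R] G) ∧ IsPeriodic (mul G (x ^ n)) (0 : G →ₗ[R] G) := by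
    intro G _ _ _
    refine ⟨⟨?_, ?_⟩, LinearMap.comp_zero _, LinearMap.zero_comp _⟩
    · rw [perH_zero]
      exact (length_ker_ne_top x hart G n).lt_top
    · rw [perH_zero']
      exact (length_coker_ne_top x hart G n).lt_top
  have hE := hart E
  have h := (Groth.Agent.CycA.Herbrand.herbrand_eq_of_finite_ker_coker (mul H₀ (x ^ n)) 0 (mul H (x ^ n)) 0
    (key H₀).2 (key H).2 f (by ext w; simp) (by ext w; simp) (key H₀).1
    (length_ne_top x (ker f) E fun w => Subtype.ext (hker _ w.2)).lt_top
    (length_ne_top x (H ⧸ range f) E fun w => by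
      obtain ⟨w, rfl⟩ := Submodule.mkQ_surjective _ w
      obtain ⟨w', hw'⟩ := hcok w
      rw [← map_smul, Submodule.mkQ_apply, Submodule.Quotient.mk_eq_zero]
      exact ⟨w', hw'⟩).lt_top).2
  unfold herbrand at h
  rwa [perH_zero, perH_zero', perH_zero, perH_zero'] at h

/-- A chain argument. -/
theorem pow_smul_eq_zero_of_length_le (H : Type v) [AddCommGroup H] [Module R H] (N C : ℕ)
    (h : Module.length R (ker (mul H (x ^ N))) ≤ C) (hN : C < N) (n : ℕ) (w : H) (hw : x ^ n • w = 0) :
    x ^ C • w = 0 := by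
  -- the chain becomes stationary at some `j ≤ C`
  have h1 : ∃ j ≤ C, ker (mul H (x ^ (j + 1))) ≤ ker (mul H (x ^ j)) := by
    by_contra hcon
    push Not at hcon
    have h2 : ∀ j ≤ C + 1, (j : ℕ∞) ≤ Module.length R (ker (mul H (x ^ j))) := by
      intro j
      induction j with
      | zero => intro _; simp
      | succ j ih =>
        intro hj
        have h3 := ih (by omega)
        have h4 := hcon j (by omega)
        have h5 : ker (mul H (x ^ j)) < ker (mul H (x ^ (j + 1))) := lt_of_le_not_ge (ker_mono x H (Nat.le_succ j)) h4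
        by_cases h6 : Module.length R (ker (mul H (x ^ j))) = ⊤
        · have h7 : Module.length R (ker (mul H (x ^ j))) ≤ Module.length R (ker (mul H (x ^ (j + 1)))) :=
            Module.length_le_of_injective (Submodule.inclusion h5.le) (Submodule.inclusion_injective _)
          rw [h6, top_le_iff] at h7
          rw [h7]
          exact le_top
        · have h7 : Module.length R (ker (mul H (x ^ j))) < Module.length R (ker (mul H (x ^ (j + 1)))) := by
            rw [Module.length_submodule, Module.length_submodule]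
            refine Order.height_strictMono h5 ?_
            rw [← Module.length_submodule]
            exact lt_top_iff_ne_top.2 h6
          rw [Nat.cast_succ]
          exact Order.add_one_le_of_lt (lt_of_le_of_lt h3 h7)
    have h3 := h2 (C + 1) le_rfl
    have h4 : Module.length R (ker (mul H (x ^ (C + 1)))) ≤ Module.length R (ker (mul H (x ^ N))) :=
      Module.length_le_of_injective (Submodule.inclusion (ker_mono x H hN)) (Submodule.inclusion_injective _)
    have h5 := h3.trans (h4.trans h)
    have h6 : C + 1 ≤ C := by exact_mod_cast h5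
    omega
  obtain ⟨j, hj, hj'⟩ := h1
  have h2 : ∀ i, ker (mul H (x ^ (j + i))) ≤ ker (mul H (x ^ j)) := by
    intro i
    induction i with
    | zero => exact le_rfl
    | succ i ih =>
      intro v hv
      have h3 : x ^ i • v ∈ ker (mul H (x ^ (j + 1))) := by
        rw [LinearMap.mem_ker, LinearMap.lsmul_apply, ← mul_smul, ← pow_add]
        rw [LinearMap.mem_ker, LinearMap.lsmul_apply] at hv
        rw [show j + 1 + i = j + (i + 1) by omega]
        exact hv
      have h4 := hj' h3
      refine ih ?_
      rw [LinearMap.mem_ker, LinearMap.lsmul_apply, ← mul_smul, ← pow_add] at h4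
      rw [LinearMap.mem_ker, LinearMap.lsmul_apply]
      exact h4
  have h3 : w ∈ ker (mul H (x ^ (j + n))) := by
    rw [LinearMap.mem_ker, LinearMap.lsmul_apply, pow_add, mul_smul, hw, smul_zero]
  exact ker_mono x H hj (h2 n h3)

include hart in
/-- The bound for `x`-power torsion. -/
theorem torsion_le {H₀ H H₂ P₀ P : Type v} [AddCommGroup H₀] [Module R H₀] [Module.Finite R H₀]
    [AddCommGroup H] [Module R H] [Module.Finite R H] [AddCommGroup H₂] [Module R H₂] [Module.Finite R H₂]
    [AddCommGroup P₀] [Module R P₀] [AddCommGroup P] [Module R P]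
    (f : H₀ →ₗ[R] H) (E : ℕ) (hker : ∀ w, f w = 0 → x ^ E • w = 0) (hcok : ∀ v : H, ∃ w, f w = x ^ E • v) (N : ℕ)
    (g₀ : H₀ →ₗ[R] P₀) (d₀ : P₀ →ₗ[R] H₂) (ex1 : Function.Exact (mul H₀ (x ^ N)) g₀) (ex2 : Function.Exact g₀ d₀)
    (ex3 : Function.Exact d₀ (mul H₂ (x ^ N))) (g : H →ₗ[R] P) (ex4 : Function.Exact (mul H (x ^ N)) g)
    (e : P₀ ≃ₗ[R] P) (C₀ C₂ : ℕ) (h0 : Module.length R (ker (mul H₀ (x ^ N))) ≤ C₀)
    (h2 : Module.length R (ker (mul H₂ (x ^ N))) ≤ C₂) (hN : C₀ + C₂ < N) (n : ℕ) (w : H) (hw : x ^ n • w = 0) :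
    x ^ (C₀ + C₂) • w = 0 := by
  refine pow_smul_eq_zero_of_length_le x H N (C₀ + C₂) ?_ hN n w hw
  -- lengths of the cokernels
  have a1 : Module.length R P₀ = Module.length R (range g₀) + Module.length R (range d₀) :=
    Module.length_eq_add_of_exact (range g₀).subtype d₀.rangeRestrict (Submodule.subtype_injective _)
      d₀.surjective_rangeRestrict (by
        intro z
        rw [← LinearMap.mem_ker, LinearMap.ker_rangeRestrict, LinearMap.mem_ker, ex2 z]
        simp)
  have a2 : Module.length R (range g₀) = Module.length R (H₀ ⧸ range (mul H₀ (x ^ N))) := by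
    rw [← LinearMap.exact_iff.1 ex1]
    exact (g₀.quotKerEquivRange).length_eq.symm
  have a3 : Module.length R (range d₀) = Module.length R (ker (mul H₂ (x ^ N))) := by
    rw [LinearMap.exact_iff.1 ex3]
  have a4 : Module.length R (H ⧸ range (mul H (x ^ N))) ≤ Module.length R P := by
    rw [← LinearMap.exact_iff.1 ex4, (g.quotKerEquivRange).length_eq]
    exact Module.length_le_of_injective (range g).subtype (Submodule.subtype_injective _)
  rw [← e.length_eq, a1, a2, a3] at a4
  have b := herbrand_eq x hart f E hker hcok N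
  obtain ⟨k₀, e1⟩ := ENat.ne_top_iff_exists.1 (length_ker_ne_top x hart H₀ N)
  obtain ⟨k, e2⟩ := ENat.ne_top_iff_exists.1 (length_ker_ne_top x hart H N)
  obtain ⟨k₂, e3⟩ := ENat.ne_top_iff_exists.1 (length_ker_ne_top x hart H₂ N)
  obtain ⟨c₀, e4⟩ := ENat.ne_top_iff_exists.1 (length_coker_ne_top x hart H₀ N)
  obtain ⟨c, e5⟩ := ENat.ne_top_iff_exists.1 (length_coker_ne_top x hart H N)
  rw [← e1, ← e2, ← e4, ← e5, ENat.toNat_coe, ENat.toNat_coe, ENat.toNat_coe, ENat.toNat_coe] at b
  rw [← e3, ← e4, ← e5] at a4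
  rw [← e1] at h0
  rw [← e3] at h2
  rw [← e2]
  norm_cast at a4 h0 h2 ⊢
  omega

end

end K589.NilAlg
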