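import Groth.Agent.PicLoc.K589.NilFac
import Groth.Agent.PicLoc.K589.NilAlg
import Groth.Agent.Sga2lef.H94.PrincLim

/-!
# A uniform bound for the `x`-power torsion of `H^1`

`X` over `Spec A`, `x : A` with `A / x ^ n` Artinian, `M, M' : X.Modules` isomorphic up to powers of `x` (maps `s`, `t`)
and with isomorphic reductions modulo `x ^ (a + N)`: then the `x`-power torsion of `H^1(X, x ^ a M')` is killed by
`x ^ C`, where `C` only depends on `M`.
-/

set_option autoImplicit false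
universe u

open CategoryTheory CategoryTheory.Limits AlgebraicGeometry Opposite

namespace K589.NilBound

open Groth.Agent.FormalB.ModPow Groth.Agent.FormalB.HHLes K589.NilFac K589.NilAlg
open Groth.Agent.FormalA.HHLin (HHmap HHmap_comp_apply HHmap_comp HHmap_smulMod HHmap_id)

variable {A : Type u} [CommRing A] {X : Scheme.{u}} [X.Over (Spec (CommRingCat.of A))] (x : A)

theorem HHmap_mul (M : X.Modules) (y : A) (p : ℕ) : HHmap A (Formal.smulMod A M y) p = mul (Coh.HH X M p) y :=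
  LinearMap.ext fun w => HHmap_smulMod A y p w

theorem torsion_bound [IsNoetherianRing A] (hart : ∀ n : ℕ, IsArtinianRing (A ⧸ Ideal.span {x ^ n})) {a : ℕ} {M M' : X.Modules}
    (F : Fac x a M) (F' : Fac x a M') (h : TF x a M) (h' : TF x a M') (p : ℕ) (s : M ⟶ M') (t : M' ⟶ M) (E : ℕ)
    (hst : s ≫ t = Formal.smulMod A M (x ^ E)) (hts : t ≫ s = Formal.smulMod A M' (x ^ E))
    [Module.Finite A (Coh.HH X F.K p)] [Module.Finite A (Coh.HH X F'.K p)] [Module.Finite A (Coh.HH X F.K (p + 1))]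
    (N : ℕ) (θ : Q x (a + N) M ≅ Q x (a + N) M') (C₀ C₂ : ℕ)
    (h0 : ∀ n, Module.length A (LinearMap.ker (mul (Coh.HH X F.K p) (x ^ n))) ≤ C₀)
    (h2 : ∀ n, Module.length A (LinearMap.ker (mul (Coh.HH X F.K (p + 1)) (x ^ n))) ≤ C₂)
    (hN : C₀ + C₂ < N) (n : ℕ) (w : Coh.HH X F'.K p) (hw : x ^ n • w = 0) : x ^ (C₀ + C₂) • w = 0 := by
  obtain ⟨sK, hsK⟩ := F.exists_map F' s
  obtain ⟨tK, htK⟩ := F'.exists_map F t
  have e1 := F.comp_map F' hsK htK hst
  have e2 := F'.comp_map F htK hsK hts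
  obtain ⟨φ⟩ := F.nonempty_quot F' h h' N θ
  have m1 := F.mono_one h
  have m2 := F'.mono_one h'
  have s1 := Groth.Agent.Sga2lef.H94.PrincLim.shortExact F.K x N
  have s2 := Groth.Agent.Sga2lef.H94.PrincLim.shortExact F'.K x N
  let e : Coh.HH X (Q x N F.K) p ≃ₗ[A] Coh.HH X (Q x N F'.K) p :=
    LinearEquiv.ofLinearMap (HHmap A φ.hom p) (HHmap A φ.inv p)
      (by rw [← HHmap_comp, φ.inv_hom_id, HHmap_id]) (by rw [← HHmap_comp, φ.hom_inv_id, HHmap_id])
  refine torsion_le x hart (HHmap A sK p) E ?_ ?_ N (HHmap A (π x N F.K) p) (δ A s1 p) ?_ (exact_map_δ A s1 p) ?_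
    (HHmap A (π x N F'.K) p) ?_ e C₀ C₂ (h0 N) (h2 N) hN n w hw
  · intro w hw
    have h3 : HHmap A tK p (HHmap A sK p w) = 0 := by rw [hw, map_zero]
    rwa [HHmap_comp_apply, e1, HHmap_smulMod] at h3
  · intro v
    refine ⟨HHmap A tK p v, ?_⟩
    rw [HHmap_comp_apply, e2, HHmap_smulMod]
  · rw [← HHmap_mul]
    exact exact_map_map A s1 p
  · rw [← HHmap_mul]
    exact exact_δ_map A s1 p
  · rw [← HHmap_mul]
    exact exact_map_map A s2 p

end K589.NilBound
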