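import Groth.Agent.FormalB.ModPow
import Groth.Agent.FormalB.HHLes
import Groth.Agent.Ega3B.ReesId

/-!
# The image of multiplication by `x ^ a`

`X` over `Spec A`, `x : A`, `M : X.Modules`.
* `Fac x a M`: a factorization `M ↠ K ↪ M` of multiplication by `x ^ a`;
* `TF x a M`: `x ^ (a + 1) f = 0` implies `x ^ a f = 0`; then `x` is injective on `K` (`Fac.mono_pow`);
* `Fac.se`: the short exact sequence `0 → K → M → M / x ^ (a + j) M → 0` (the first map is `x ^ j` followed by the
  inclusion), `Fac.seK`: `0 → K → K → K / x ^ n K → 0`;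
* `Fac.lift`: if `x`-power torsion of `H^1(K)` is killed by `x ^ C` then sections of `M / x ^ (a + j + C) M` lift to `M`
  up to `x ^ (a + j) M`;
* `Fac.quotIso`: `K / x ^ n K` only depends on `M / x ^ (a + n) M`.
-/

set_option autoImplicit false
universe u

open CategoryTheory CategoryTheory.Limits AlgebraicGeometry Opposite

namespace K589.NilFac

open Groth.Agent.FormalB.ModPow Groth.Agent.FormalB.HHLes
open Groth.Agent.FormalA.HHLin (HHmap HHmap_comp_apply)

variable {A : Type u} [CommRing A] {X : Scheme.{u}} [X.Over (Spec (CommRingCat.of A))] (x : A)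

theorem mu_add (M : X.Modules) (a b : ℕ) :
    Formal.smulMod A M (x ^ (a + b)) = Formal.smulMod A M (x ^ a) ≫ Formal.smulMod A M (x ^ b) := by
  rw [pow_add, mul_comm, smulMod_mul]

theorem mu_zero (M : X.Modules) : Formal.smulMod A M (x ^ 0) = 𝟙 M := by
  rw [pow_zero, smulMod_one]

/-- `x ^ (a + 1) f = 0` implies `x ^ a f = 0` -/
def TF (a : ℕ) (M : X.Modules) : Prop :=
  ∀ ⦃Z : X.Modules⦄ (f : Z ⟶ M), f ≫ Formal.smulMod A M (x ^ (a + 1)) = 0 → f ≫ Formal.smulMod A M (x ^ a) = 0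

/-- A factorization of multiplication by `x ^ a`. -/
structure Fac (a : ℕ) (M : X.Modules) where
  /-- the image -/
  K : X.Modules
  /-- the projection -/
  p : M ⟶ K
  /-- the inclusion -/
  i : K ⟶ M
  epi : Epi p
  mono : Mono i
  fac : p ≫ i = Formal.smulMod A M (x ^ a)

namespace Fac

variable {x} {a : ℕ} {M : X.Modules}

/-- The factorization through the image. -/
noncomputable def img (x : A) (a : ℕ) (M : X.Modules) : Fac x a M where
  K := Abelian.image (Formal.smulMod A M (x ^ a))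
  p := Abelian.factorThruImage _
  i := Abelian.image.ι _
  epi := inferInstance
  mono := inferInstance
  fac := Abelian.image.fac _

variable (F : Fac x a M)

theorem i_p : F.i ≫ F.p = Formal.smulMod A F.K (x ^ a) := by
  have := F.epi
  rw [← cancel_epi F.p, ← Category.assoc, F.fac, smulMod_naturality]

theorem p_pow_i (j : ℕ) : F.p ≫ Formal.smulMod A F.K (x ^ j) ≫ F.i = Formal.smulMod A M (x ^ (a + j)) := by
  rw [smulMod_naturality, ← Category.assoc, F.fac, mu_add]

theorem mono_one (h : TF x a M) : Mono (Formal.smulMod A F.K x) := by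
  have := F.epi
  have := F.mono
  rw [Preadditive.mono_iff_cancel_zero]
  intro Z f hf
  obtain ⟨Z', e, he, f', hf'⟩ := surjective_up_to_refinements_of_epi F.p f
  rw [← cancel_epi e, hf', comp_zero, ← cancel_mono F.i, zero_comp, Category.assoc, F.fac]
  refine h f' ?_
  have h1 := F.p_pow_i 1
  rw [pow_one] at h1
  rw [← h1, ← Category.assoc, ← hf', Category.assoc, ← Category.assoc f, hf, zero_comp, comp_zero]

theorem mono_pow (h : TF x a M) (n : ℕ) : Mono (Formal.smulMod A F.K (x ^ n)) := by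
  induction n with
  | zero =>
    rw [mu_zero]
    infer_instance
  | succ n ih =>
    have := F.mono_one h
    rw [mu_add, pow_one]
    exact mono_comp _ _

theorem isCoh [IsLocallyNoetherian X] (hM : Coh.IsCoh M) : Coh.IsCoh F.K := by
  have := F.epi
  have := F.mono
  exact Groth.Agent.Ega3B.ReesId.isCoh_of_epi_of_mono hM hM F.p F.i

end Fac

/-! ### Quotients by powers of `x` -/

/-- `M / x ^ n M` -/
noncomputable abbrev Q (n : ℕ) (M : X.Modules) : X.Modules := Formal.modPow (Ideal.span {x}) n M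

/-- `M ⟶ M / x ^ n M` -/
noncomputable abbrev π (n : ℕ) (M : X.Modules) : M ⟶ Q x n M := Formal.modPowπ (Ideal.span {x}) n M

instance epi_π (n : ℕ) (M : X.Modules) : Epi (π x n M) := (isModPow_modPowπ (Ideal.span {x}) n M).epi

theorem mu_π (n : ℕ) (M : X.Modules) : Formal.smulMod A M (x ^ n) ≫ π x n M = 0 :=
  (isModPow_modPowπ (Ideal.span {x}) n M).smul_comp _ (Ideal.pow_mem_pow (Ideal.mem_span_singleton_self x) n)

theorem exists_desc (n : ℕ) {M Z : X.Modules} (k : M ⟶ Z) (hk : Formal.smulMod A M (x ^ n) ≫ k = 0) :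
    ∃ ψ : Q x n M ⟶ Z, π x n M ≫ ψ = k := by
  refine (isModPow_modPowπ (Ideal.span {x}) n M).desc k ?_
  intro a ha
  rw [Ideal.span_singleton_pow] at ha
  obtain ⟨b, rfl⟩ := Ideal.mem_span_singleton'.1 ha
  rw [smulMod_mul, Category.assoc, smulMod_naturality k b, reassoc_of% hk, zero_comp]

/-- `M / x ^ n M ⟶ M / x ^ m M` for `m ≤ n` -/
noncomputable abbrev tr {m n : ℕ} (h : m ≤ n) (M : X.Modules) : Q x n M ⟶ Q x m M :=
  Formal2.modPowLE (Ideal.span {x}) h M

theorem π_tr {m n : ℕ} (h : m ≤ n) (M : X.Modules) : π x n M ≫ tr x h M = π x m M :=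
  Formal2.modPowπ_modPowLE _ h M

namespace Fac

variable {x} {a : ℕ} {M : X.Modules} (F : Fac x a M)

/-- `0 → K → M → M / x ^ (a + j) M → 0` -/
noncomputable abbrev sc (j : ℕ) : ShortComplex X.Modules :=
  ShortComplex.mk (Formal.smulMod A F.K (x ^ j) ≫ F.i) (π x (a + j) M) (by
    have := F.epi
    rw [← cancel_epi F.p, comp_zero, ← Category.assoc, F.p_pow_i, mu_π])

theorem se (h : TF x a M) (j : ℕ) : (F.sc j).ShortExact := by
  have h1 := F.mono_pow h j
  have h2 := F.mono
  refine { exact := ?_, mono_f := mono_comp _ _, epi_g := epi_π x _ M }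
  have key : ∀ {Z : X.Modules} (k : M ⟶ Z), (Formal.smulMod A F.K (x ^ j) ≫ F.i) ≫ k = 0 →
      ∃ ψ : Q x (a + j) M ⟶ Z, π x (a + j) M ≫ ψ = k := by
    intro Z k hk
    refine exists_desc x _ k ?_
    rw [← F.p_pow_i, Category.assoc, hk, comp_zero]
  apply ShortComplex.exact_of_g_is_cokernel
  refine CokernelCofork.IsColimit.ofπ _ _ (fun {Z} k hk => (key k hk).choose) (fun {Z} k hk =>
    (key k hk).choose_spec) (fun {Z} k hk m hm => ?_)
  exact (cancel_epi (π x (a + j) M)).1 (hm.trans (key k hk).choose_spec.symm)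

/-- The morphism of short exact sequences from level `j + k` to level `j`. -/
noncomputable def scMap (j k : ℕ) : F.sc (j + k) ⟶ F.sc j where
  τ₁ := Formal.smulMod A F.K (x ^ k)
  τ₂ := 𝟙 _
  τ₃ := tr x (by omega) M
  comm₁₂ := by
    dsimp only [sc]
    rw [Category.comp_id, ← Category.assoc, ← mu_add, add_comm]
  comm₂₃ := by
    dsimp only [sc]
    rw [Category.id_comp, π_tr]

/-- Sections of `M / x ^ (a + j + C) M` lift to `M` up to `x ^ (a + j) M`. -/
theorem lift (h : TF x a M) (p : ℕ) (C : ℕ) (hC : ∀ (n : ℕ) (w : Coh.HH X F.K (p + 1)), x ^ n • w = 0 → x ^ C • w = 0)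
    (j : ℕ) (y : Coh.HH X (Q x (a + (j + C)) M) p) :
    ∃ z : Coh.HH X M p, HHmap A (π x (a + j) M) p z = HHmap A (tr x (by omega) M) p y := by
  refine (exact_map_δ A (F.se h j) p _).1 ?_
  have h1 := LinearMap.congr_fun (δ_naturality A (F.se h (j + C)) (F.se h j) (F.scMap j C) p) y
  refine h1.trans ?_
  have h2 : HHmap A (Formal.smulMod A F.K (x ^ (j + C)) ≫ F.i) (p + 1) (δ A (F.se h (j + C)) p y) = 0 :=
    map_δ A (F.se h (j + C)) p y
  have h3 := congrArg (HHmap A F.p (p + 1)) h2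
  rw [HHmap_comp_apply, map_zero, Category.assoc, F.i_p, ← mu_add] at h3
  exact hC (j + C + a) _ h3

/-! ### `K / x ^ n K` -/

/-- `M / x ^ (a + n) M ⟶ K / x ^ n K` -/
theorem exists_pbar (n : ℕ) : ∃ q : Q x (a + n) M ⟶ Q x n F.K, π x (a + n) M ≫ q = F.p ≫ π x n F.K := by
  refine exists_desc x _ _ ?_
  rw [← Category.assoc, smulMod_naturality, add_comm, mu_add, Category.assoc, Category.assoc]
  have h1 := smulMod_naturality (π x n F.K) (x ^ a)
  rw [h1, ← Category.assoc (Formal.smulMod A F.K (x ^ n)), mu_π, zero_comp, comp_zero]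

/-- `K / x ^ n K ⟶ M / x ^ (a + n) M` -/
theorem exists_ibar (n : ℕ) : ∃ q : Q x n F.K ⟶ Q x (a + n) M, π x n F.K ≫ q = F.i ≫ π x (a + n) M := by
  refine exists_desc x _ _ ?_
  rw [← Category.assoc]
  exact (F.sc n).zero

theorem exists_fac (h : TF x a M) (n : ℕ) : ∃ (q : Q x (a + n) M ⟶ Q x n F.K) (i : Q x n F.K ⟶ Q x (a + n) M),
    Epi q ∧ Mono i ∧ q ≫ i = Formal.smulMod A _ (x ^ a) := by
  obtain ⟨q, hq⟩ := F.exists_pbar n
  obtain ⟨i, hi⟩ := F.exists_ibar n
  have e1 := F.epi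
  have e2 := F.mono
  have m1 := F.mono_pow h n
  refine ⟨q, i, ?_, ?_, ?_⟩
  · have : Epi (π x (a + n) M ≫ q) := by
      rw [hq]
      exact epi_comp _ _
    exact epi_of_epi (π x (a + n) M) q
  · rw [Preadditive.mono_iff_cancel_zero]
    intro Z f hf
    obtain ⟨Z', e, he, f', hf'⟩ := surjective_up_to_refinements_of_epi (π x n F.K) f
    have h1 : (f' ≫ F.i) ≫ (F.sc n).g = 0 := by
      change (f' ≫ F.i) ≫ π x (a + n) M = 0
      rw [Category.assoc, ← hi, ← Category.assoc, ← hf', Category.assoc, hf, comp_zero]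
    obtain ⟨Z'', e', he', g, hg⟩ := (F.se h n).exact.exact_up_to_refinements _ h1
    rw [← cancel_epi e, ← cancel_epi e', comp_zero, comp_zero, hf', ← Category.assoc]
    have h2 : e' ≫ f' = g ≫ Formal.smulMod A F.K (x ^ n) := by
      rw [← cancel_mono F.i, Category.assoc, hg, Category.assoc]
    rw [h2, Category.assoc, mu_π, comp_zero]
  · rw [← cancel_epi (π x (a + n) M), ← Category.assoc, hq, Category.assoc, hi, ← Category.assoc, F.fac,
      smulMod_naturality]

/-- Uniqueness of epi-mono factorizations. -/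
theorem _root_.K589.NilFac.nonempty_iso_of_fac {C : Type*} [Category C] [Abelian C] {A B I I' : C} (e : A ⟶ I) (m : I ⟶ B)
    (e' : A ⟶ I') (m' : I' ⟶ B) [Epi e] [Mono m] [Epi e'] [Mono m'] (h : e ≫ m = e' ≫ m') : Nonempty (I ≅ I') := by
  have e1 : StrongEpi e := strongEpi_of_epi e
  have e2 : StrongEpi e' := strongEpi_of_epi e'
  have s1 : CommSq e e' m m' := ⟨h⟩
  have s2 : CommSq e' e m' m := ⟨h.symm⟩
  have h1 : s1.lift ≫ m = m' := s1.fac_right
  have h2 : s2.lift ≫ m' = m := s2.fac_right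
  refine ⟨⟨s2.lift, s1.lift, ?_, ?_⟩⟩
  · rw [← cancel_mono m, Category.assoc, h1, h2, Category.id_comp]
  · rw [← cancel_mono m', Category.assoc, h2, h1, Category.id_comp]

/-- `K / x ^ n K` only depends on `M / x ^ (a + n) M`. -/
theorem nonempty_quot {M' : X.Modules} (F' : Fac x a M') (h : TF x a M) (h' : TF x a M') (n : ℕ)
    (θ : Q x (a + n) M ≅ Q x (a + n) M') : Nonempty (Q x n F.K ≅ Q x n F'.K) := by
  obtain ⟨q, i, hq, hi, hqi⟩ := F.exists_fac h n
  obtain ⟨q', i', hq', hi', hqi'⟩ := F'.exists_fac h' n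
  have h1 : q ≫ (i ≫ θ.hom) = (θ.hom ≫ q') ≫ i' := by
    rw [← Category.assoc, hqi, Category.assoc, hqi', smulMod_naturality]
  exact nonempty_iso_of_fac q (i ≫ θ.hom) (θ.hom ≫ q') i' h1

/-! ### Functoriality -/

/-- The induced map on the images. -/
theorem exists_map {M' : X.Modules} (F' : Fac x a M') (s : M ⟶ M') : ∃ sK : F.K ⟶ F'.K, F.p ≫ sK = s ≫ F'.p := by
  have e1 := F.epi
  have e2 := F'.mono
  refine ⟨Abelian.epiDesc F.p (s ≫ F'.p) ?_, Abelian.comp_epiDesc _ _ _⟩
  rw [← cancel_mono F'.i, zero_comp, Category.assoc, Category.assoc, F'.fac, ← smulMod_naturality, ← F.fac,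
    ← Category.assoc, ← Category.assoc, kernel.condition, zero_comp, zero_comp]

theorem comp_map {M' : X.Modules} (F' : Fac x a M') {s : M ⟶ M'} {t : M' ⟶ M} {sK : F.K ⟶ F'.K} {tK : F'.K ⟶ F.K}
    (hs : F.p ≫ sK = s ≫ F'.p) (ht : F'.p ≫ tK = t ≫ F.p) {r : A} (hst : s ≫ t = Formal.smulMod A M r) :
    sK ≫ tK = Formal.smulMod A F.K r := by
  have := F.epi
  rw [← cancel_epi F.p, ← Category.assoc, hs, Category.assoc, ht, ← Category.assoc, hst, smulMod_naturality]

end Fac

end K589.NilFac
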