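import Groth.Agent.PicLoc.K589.NilFac
import Groth.Agent.Pic13.H126.D2FF

/-!
# Torsion bounds for invertible modules

`exists_tf`: on a Noetherian scheme over `Spec A`, for `x : A`, there is `a` such that `x ^ (a + 1) m = 0` implies
`x ^ a m = 0` for the sections `m` of invertible modules.
-/

set_option autoImplicit false
universe u

open CategoryTheory CategoryTheory.Limits AlgebraicGeometry Opposite TopologicalSpace

namespace K589.NilTF

open Groth.Agent Groth.Agent.Fdesc.LocGen Groth.Agent.FormalB Groth.Agent.FormalB.ModPow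
  Groth.Agent.FormalB.ModPowAff Groth.Agent.Pic13.H126.D2FF K589.NilFac

/-- The chain of annihilators in a Noetherian ring. -/
theorem exists_stable {R : Type*} [CommRing R] [IsNoetherianRing R] (y : R) :
    ∃ a : ℕ, ∀ b, a ≤ b → ∀ f : R, y ^ (b + 1) * f = 0 → y ^ b * f = 0 := by
  obtain ⟨a, ha⟩ := monotone_stabilizes_iff_noetherian.2 (inferInstance : IsNoetherian R R)
    ⟨fun n => LinearMap.ker (LinearMap.lsmul R R (y ^ n)), fun m n h w hw => by
      rw [LinearMap.mem_ker, LinearMap.lsmul_apply] at hw ⊢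
      rw [← Nat.sub_add_cancel h, pow_add, mul_smul, hw, smul_zero]⟩
  refine ⟨a, fun b hb f hf => ?_⟩
  have h1 : LinearMap.ker (LinearMap.lsmul R R (y ^ b)) = LinearMap.ker (LinearMap.lsmul R R (y ^ (b + 1))) :=
    (ha b hb).symm.trans (ha (b + 1) (by omega))
  have h2 : f ∈ LinearMap.ker (LinearMap.lsmul R R (y ^ (b + 1))) := hf
  rw [← h1] at h2
  exact h2

variable {A : Type u} [CommRing A] {X : Scheme.{u}} [X.Over (Spec (CommRingCat.of A))]

/-- The structure sheaf. -/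
theorem exists_fun [IsNoetherian X] (x : A) : ∃ a : ℕ, ∀ (U : X.Opens) (f : Γ(X, U)),
    toΓ A X U (x ^ (a + 1)) * f = 0 → toΓ A X U (x ^ a) * f = 0 := by
  classical
  have h0 : ∀ p : X, ∃ V : X.Opens, p ∈ V ∧ IsAffineOpen V := fun p => by
    obtain ⟨_, ⟨V, hV, rfl⟩, hpV, -⟩ := X.isBasis_affineOpens.exists_subset_of_mem_open (Set.mem_univ p) isOpen_univ
    exact ⟨V, hpV, hV⟩
  choose V hpV hV using h0
  have h1 : ∀ p : X, ∃ a : ℕ, ∀ b, a ≤ b → ∀ f : Γ(X, V p), toΓ A X (V p) x ^ (b + 1) * f = 0 →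
      toΓ A X (V p) x ^ b * f = 0 := fun p => by
    have : IsNoetherianRing Γ(X, V p) := IsLocallyNoetherian.component_noetherian ⟨V p, hV p⟩
    exact exists_stable _
  choose a ha using h1
  obtain ⟨t, ht⟩ := isCompact_univ.elim_finite_subcover (fun p => (V p : Set X)) (fun p => (V p).2)
    (fun p _ => Set.mem_iUnion.2 ⟨p, hpV p⟩)
  refine ⟨t.sup a, fun U f hf => ?_⟩
  have h2 : ∀ p : U, ∃ W : X.Opens, (p : X) ∈ W ∧ ∃ h : W ≤ U, ores h (toΓ A X U (x ^ (t.sup a)) * f) = 0 := by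
    rintro ⟨p, hp⟩
    obtain ⟨i, hi⟩ := Set.mem_iUnion.1 (ht (Set.mem_univ p))
    obtain ⟨hit, hpi⟩ := Set.mem_iUnion.1 hi
    obtain ⟨g, hgU, hpg⟩ := (hV i).exists_basicOpen_le ⟨p, hp⟩ hpi
    have hgV : X.basicOpen g ≤ V i := X.basicOpen_le g
    refine ⟨X.basicOpen g, hpg, hgU, ?_⟩
    have hloc : IsLocalization.Away g Γ(X, X.basicOpen g) := (hV i).isLocalization_basicOpen g
    have halg : ∀ z : Γ(X, V i), algebraMap Γ(X, V i) Γ(X, X.basicOpen g) z = ores hgV z := fun z => rfl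
    obtain ⟨k, h, hk⟩ := IsLocalization.Away.surj g (ores hgU f)
    rw [halg, halg] at hk
    have hu : IsUnit (ores hgV g) := by
      have := IsLocalization.Away.algebraMap_isUnit (S := Γ(X, X.basicOpen g)) g
      rwa [halg] at this
    have h3 : ores hgV (toΓ A X (V i) x ^ (t.sup a + 1) * h) = 0 := by
      have h9 := congrArg (ores hgU) hf
      rw [map_mul, map_zero] at h9
      rw [map_mul, ← hk, ← map_pow, toΓ_ores, ← toΓ_ores U (X.basicOpen g) hgU, ← mul_assoc, h9, zero_mul]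
    rw [← halg, ← map_zero (algebraMap Γ(X, V i) Γ(X, X.basicOpen g)),
      IsLocalization.eq_iff_exists (Submonoid.powers g)] at h3
    obtain ⟨⟨_, l, rfl⟩, h4⟩ := h3
    have h5 : toΓ A X (V i) x ^ (t.sup a + 1) * (g ^ l * h) = 0 := by
      have h6 : g ^ l * (toΓ A X (V i) x ^ (t.sup a + 1) * h) = g ^ l * 0 := h4
      rw [mul_zero] at h6
      rw [mul_left_comm]
      exact h6
    have h6 := ha i (t.sup a) (Finset.le_sup hit) _ h5
    have h7 := congrArg (ores hgV) h6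
    rw [map_mul, map_mul, ← hk, map_zero, ← map_pow (toΓ A X (V i)), toΓ_ores,
      ← toΓ_ores U (X.basicOpen g) hgU, map_pow (ores hgV)] at h7
    have h8 : (ores hgV g ^ l * ores hgV g ^ k) * ores hgU (toΓ A X U (x ^ t.sup a) * f) = 0 := by
      rw [← h7, map_mul]
      ring
    exact (((hu.pow l).mul (hu.pow k)).mul_right_eq_zero).1 h8
  choose W hpW hWU hW using h2
  refine ores_ext W hWU (fun p hp => ?_) fun p => ?_
  · exact Opens.mem_iSup.2 ⟨⟨p, hp⟩, hpW _⟩
  · rw [hW, map_zero]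

/-- Invertible modules. -/
theorem exists_tf [IsNoetherian X] (x : A) : ∃ a : ℕ, ∀ L : X.Modules, PicF.IsInvertible L → TF x a L := by
  obtain ⟨a, ha⟩ := exists_fun (X := X) x
  refine ⟨a, fun L hL Z f hf => ?_⟩
  have key : ∀ (U : X.Opens) (m : Γ(L, U)), toΓ A X U (x ^ (a + 1)) • m = 0 → toΓ A X U (x ^ a) • m = 0 := by
    intro U m hm
    have h2 : ∀ p : U, ∃ W : X.Opens, (p : X) ∈ W ∧ ∃ h : W ≤ U, res L h (toΓ A X U (x ^ a) • m) = 0 := by
      rintro ⟨p, hp⟩
      obtain ⟨V, e, hpV, he⟩ := (isInvertible_iff L).1 hL p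
      have hg : IsGen (res L (inf_le_left : V ⊓ U ≤ V) e) := he.res _
      refine ⟨V ⊓ U, ⟨hpV, hp⟩, inf_le_right, ?_⟩
      obtain ⟨c, hc⟩ := hg.exists_eq (res L inf_le_right m)
      have h3 : (toΓ A X (V ⊓ U) (x ^ (a + 1)) * c) • res L (inf_le_left : V ⊓ U ≤ V) e =
          (0 : Γ(X, V ⊓ U)) • res L (inf_le_left : V ⊓ U ≤ V) e := by
        rw [mul_smul, ← hc, zero_smul, ← toΓ_ores U (V ⊓ U) inf_le_right, ← res_smul, hm, map_zero]
      have h4 := ha _ _ (hg.ext h3)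
      rw [res_smul, toΓ_ores, hc, ← mul_smul, h4, zero_smul]
    choose W hpW hWU hW using h2
    refine res_ext L W hWU (fun p hp => ?_) fun p => ?_
    · exact Opens.mem_iSup.2 ⟨⟨p, hp⟩, hpW _⟩
    · rw [hW, map_zero]
  ext U m
  refine key U (f.app U m) ?_
  exact congr(($(hf).app U) m)

end K589.NilTF
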